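import Mathlib
import Cfsg.Agent.Lib.Helper46.SL2Basic

set_option autoImplicit false

/-!
Automorphisms of `PSL₂(F)`: basic constructions (conjugation by `GL₂(F)`, field automorphisms).
-/

namespace Cfsg.Agent.Lib.Helper18.AutPSL2

open Matrix MatrixGroups Cfsg.Agent.Lib.Helper46

variable {F : Type*} [Field F]

/-- the projection `SL₂(F) → PSL₂(F)` -/
abbrev pm (x : SpecialLinearGroup (Fin 2) F) : ProjectiveSpecialLinearGroup (Fin 2) F :=
  QuotientGroup.mk x

theorem pm_mul (x y : SpecialLinearGroup (Fin 2) F) : pm (x * y) = pm x * pm y := rfl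
theorem pm_inv (x : SpecialLinearGroup (Fin 2) F) : pm x⁻¹ = (pm x)⁻¹ := rfl
theorem pm_one : pm (1 : SpecialLinearGroup (Fin 2) F) = 1 := rfl

theorem pm_surjective : Function.Surjective (pm : SpecialLinearGroup (Fin 2) F → _) :=
  QuotientGroup.mk_surjective

theorem exists_eps_of_pm_eq {x y : SpecialLinearGroup (Fin 2) F} (h : pm x = pm y) :
    ∃ ε : F, ε ^ 2 = 1 ∧ ∀ i j, y.1 i j = ε * x.1 i j := by
  rw [QuotientGroup.eq, Matrix.SpecialLinearGroup.mem_center_iff] at h
  obtain ⟨r, hr, hs⟩ := h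
  refine ⟨r, by simpa using hr, ?_⟩
  have hy : y = x * (x⁻¹ * y) := by group
  have hy' : y.1 = x.1 * (x⁻¹ * y).1 := by
    conv_lhs => rw [hy]
    rfl
  intro i j
  rw [hy', ← hs]
  simp [mul_comm]

theorem eps_eq_one {ε : F} (h1 : ε ^ 2 = 1) (h2 : 2 * ε = 2) : ε = 1 := by
  rcases sq_eq_one_iff.1 h1 with h | h
  · exact h
  · rw [h] at h2
    have h4 : (2 : F) * 2 = 0 := by linear_combination -h2
    have h5 : (2 : F) = 0 := by
      rcases mul_eq_zero.1 h4 with h | h <;> exact h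
    rw [h]
    linear_combination -h5

/-- lifts of trace two are unique -/
theorem eq_of_pm_eq_of_tr {x y : SpecialLinearGroup (Fin 2) F} (h : pm x = pm y)
    (hx : tr x = 2) (hy : tr y = 2) : x = y := by
  obtain ⟨ε, h1, h2⟩ := exists_eps_of_pm_eq h
  have h3 : ε = 1 := by
    apply eps_eq_one h1
    have : tr y = ε * tr x := by
      simp only [tr, h2]; ring
    rw [hx, hy] at this
    linear_combination -this
  subst h3
  apply ext2 <;> simp [h2]

theorem tr_uu (t : F) : tr (uu t) = 2 := by simp [tr, uu]; norm_num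
theorem tr_ll (t : F) : tr (ll t) = 2 := by simp [tr, ll]; norm_num

theorem uu_add' (s t : F) : uu (s + t) = uu s * uu t := by
  apply ext2 <;> simp [uu, mul_00, mul_01, mul_10, mul_11, add_comm]
theorem ll_add' (s t : F) : ll (s + t) = ll s * ll t := by
  apply ext2 <;> simp [ll, mul_00, mul_01, mul_10, mul_11]
theorem uu_zero' : uu (0 : F) = 1 := by
  apply ext2 <;> simp [uu]
theorem ll_zero' : ll (0 : F) = 1 := by
  apply ext2 <;> simp [ll]
theorem uu_inv' (t : F) : (uu t)⁻¹ = uu (-t) := by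
  apply ext2 <;> simp [uu, inv_00, inv_01, inv_10, inv_11]
theorem ll_inv' (t : F) : (ll t)⁻¹ = ll (-t) := by
  apply ext2 <;> simp [ll, inv_00, inv_01, inv_10, inv_11]

theorem pm_uu_injective : Function.Injective (fun t : F => pm (uu t)) := by
  intro s t h
  have := eq_of_pm_eq_of_tr h (tr_uu s) (tr_uu t)
  have h2 := congrArg (fun x : SpecialLinearGroup (Fin 2) F => x.1 0 1) this
  simpa [uu] using h2

theorem pm_ll_injective : Function.Injective (fun t : F => pm (ll t)) := by
  intro s t h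
  have := eq_of_pm_eq_of_tr h (tr_ll s) (tr_ll t)
  have h2 := congrArg (fun x : SpecialLinearGroup (Fin 2) F => x.1 1 0) this
  simpa [ll] using h2

theorem pm_ll_ne_pm_uu (s t : F) (hs : s ≠ 0) : pm (ll s) ≠ pm (uu t) := by
  intro h
  have := eq_of_pm_eq_of_tr h (tr_ll s) (tr_uu t)
  have h2 := congrArg (fun x : SpecialLinearGroup (Fin 2) F => x.1 1 0) this
  exact hs (by simpa [ll, uu] using h2)

/-! ### automorphisms of the quotient -/

/-- an automorphism of `SL₂` induces one of `PSL₂` -/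
noncomputable def autQ (e : SpecialLinearGroup (Fin 2) F ≃* SpecialLinearGroup (Fin 2) F) :
    ProjectiveSpecialLinearGroup (Fin 2) F ≃* ProjectiveSpecialLinearGroup (Fin 2) F :=
  QuotientGroup.congr _ _ e (Subgroup.characteristic_iff_map_eq.1 inferInstance e)

@[simp] theorem autQ_pm (e : SpecialLinearGroup (Fin 2) F ≃* SpecialLinearGroup (Fin 2) F)
    (x : SpecialLinearGroup (Fin 2) F) : autQ e (pm x) = pm (e x) := rfl

noncomputable def autQHom : MulAut (SpecialLinearGroup (Fin 2) F) →*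
    MulAut (ProjectiveSpecialLinearGroup (Fin 2) F) where
  toFun := autQ
  map_one' := by
    ext x
    obtain ⟨x, rfl⟩ := pm_surjective x
    rfl
  map_mul' a b := by
    ext x
    obtain ⟨x, rfl⟩ := pm_surjective x
    rfl

/-- conjugation by an element of `GL₂` on `SL₂` -/
def conjS (g : GL (Fin 2) F) : SpecialLinearGroup (Fin 2) F ≃* SpecialLinearGroup (Fin 2) F where
  toFun x := ⟨g.1 * x.1 * g⁻¹.1, by
    rw [det_mul, det_mul, x.2, mul_one, ← det_mul, Units.mul_inv, det_one]⟩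
  invFun x := ⟨g⁻¹.1 * x.1 * g.1, by
    rw [det_mul, det_mul, x.2, mul_one, ← det_mul, Units.inv_mul, det_one]⟩
  left_inv x := by
    apply Subtype.ext
    show g⁻¹.1 * (g.1 * x.1 * g⁻¹.1) * g.1 = x.1
    rw [Matrix.mul_assoc, Matrix.mul_assoc, Units.inv_mul, Matrix.mul_one, ← Matrix.mul_assoc,
      Units.inv_mul, Matrix.one_mul]
  right_inv x := by
    apply Subtype.ext
    show g.1 * (g⁻¹.1 * x.1 * g.1) * g⁻¹.1 = x.1
    rw [Matrix.mul_assoc, Matrix.mul_assoc, Units.mul_inv, Matrix.mul_one, ← Matrix.mul_assoc,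
      Units.mul_inv, Matrix.one_mul]
  map_mul' x y := by
    apply Subtype.ext
    show g.1 * (x.1 * y.1) * g⁻¹.1 = (g.1 * x.1 * g⁻¹.1) * (g.1 * y.1 * g⁻¹.1)
    have : g⁻¹.1 * (g.1 * y.1 * g⁻¹.1) = y.1 * g⁻¹.1 := by
      rw [← Matrix.mul_assoc, ← Matrix.mul_assoc, Units.inv_mul, Matrix.one_mul]
    rw [Matrix.mul_assoc (g.1 * x.1), this]
    simp only [Matrix.mul_assoc]

theorem conjS_val (g : GL (Fin 2) F) (x : SpecialLinearGroup (Fin 2) F) :
    (conjS g x).1 = g.1 * x.1 * g⁻¹.1 := rfl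

/-- the defining relation of `conjS` without inverses -/
theorem conjS_mul (g : GL (Fin 2) F) (x : SpecialLinearGroup (Fin 2) F) :
    (conjS g x).1 * g.1 = g.1 * x.1 := by
  rw [conjS_val, Matrix.mul_assoc, Units.inv_mul, Matrix.mul_one]

theorem conjS_eq_of_mul {g : GL (Fin 2) F} {x y : SpecialLinearGroup (Fin 2) F}
    (h : y.1 * g.1 = g.1 * x.1) : conjS g x = y := by
  apply Subtype.ext
  rw [conjS_val, ← h, Matrix.mul_assoc, Units.mul_inv, Matrix.mul_one]

def conjSHom : GL (Fin 2) F →* MulAut (SpecialLinearGroup (Fin 2) F) where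
  toFun := conjS
  map_one' := by
    ext x : 1
    apply conjS_eq_of_mul
    simp
  map_mul' a b := by
    ext x : 1
    apply conjS_eq_of_mul
    show (conjS a (conjS b x)).1 * (a.1 * b.1) = (a.1 * b.1) * x.1
    rw [← Matrix.mul_assoc, conjS_mul, Matrix.mul_assoc, conjS_mul, Matrix.mul_assoc]

/-- conjugation by `GL₂(F)` on `PSL₂(F)` -/
noncomputable def cG : GL (Fin 2) F →* MulAut (ProjectiveSpecialLinearGroup (Fin 2) F) :=
  autQHom.comp conjSHom

theorem cG_pm (g : GL (Fin 2) F) (x : SpecialLinearGroup (Fin 2) F) :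
    cG g (pm x) = pm (conjS g x) := rfl

theorem conjS_toGL (y x : SpecialLinearGroup (Fin 2) F) :
    conjS (SpecialLinearGroup.toGL y) x = y * x * y⁻¹ := by
  apply conjS_eq_of_mul
  show (y * x * y⁻¹ * y).1 = (y * x).1
  simp

theorem cG_toGL (y : SpecialLinearGroup (Fin 2) F) :
    cG (SpecialLinearGroup.toGL y) = MulAut.conj (pm y) := by
  ext x
  obtain ⟨x, rfl⟩ := pm_surjective x
  rw [cG_pm, conjS_toGL]
  rfl

theorem tr_conjS (g : GL (Fin 2) F) (x : SpecialLinearGroup (Fin 2) F) :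
    tr (conjS g x) = tr x := by
  have h1 : ∀ y : SpecialLinearGroup (Fin 2) F, tr y = Matrix.trace y.1 := by
    intro y
    simp [tr, Matrix.trace, Fin.sum_univ_two]
  rw [h1, h1, conjS_val, Matrix.trace_mul_comm, ← Matrix.mul_assoc, Units.inv_mul, Matrix.one_mul]

/-! ### field automorphisms -/

/-- a ring automorphism acting on `SL₂` -/
def fldS (σ : F ≃+* F) : SpecialLinearGroup (Fin 2) F ≃* SpecialLinearGroup (Fin 2) F where
  toFun := SpecialLinearGroup.map (σ : F →+* F)
  invFun := SpecialLinearGroup.map (σ.symm : F →+* F)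
  left_inv A := by
    ext i j
    simp [SpecialLinearGroup.map_apply_coe]
  right_inv A := by
    ext i j
    simp [SpecialLinearGroup.map_apply_coe]
  map_mul' A B := map_mul _ A B

theorem fldS_apply (σ : F ≃+* F) (x : SpecialLinearGroup (Fin 2) F) (i j : Fin 2) :
    (fldS σ x).1 i j = σ (x.1 i j) := rfl

theorem fldS_uu (σ : F ≃+* F) (t : F) : fldS σ (uu t) = uu (σ t) := by
  apply ext2 <;> simp [fldS_apply, uu]

theorem fldS_ll (σ : F ≃+* F) (t : F) : fldS σ (ll t) = ll (σ t) := by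
  apply ext2 <;> simp [fldS_apply, ll]

end Cfsg.Agent.Lib.Helper18.AutPSL2
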