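import Mathlib
import Cfsg.Agent.Lib.Helper18.AutPSL2.Basic

set_option autoImplicit false

/-!
A normalised automorphism of `PSL₂(F)` is a field automorphism.
-/

namespace Cfsg.Agent.Lib.Helper18.AutPSL2

open Matrix MatrixGroups Cfsg.Agent.Lib.Helper46

variable {F : Type*} [Field F]

/-- the monomial element `[[0,t],[-1/t,0]]` -/
def wt (t : F) (ht : t ≠ 0) : SpecialLinearGroup (Fin 2) F :=
  mk2 0 t (-t⁻¹) 0 (by field_simp; ring)

theorem wt_eq (t : F) (ht : t ≠ 0) : wt t ht = uu t * ll (-t⁻¹) * uu t := by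
  apply ext2 <;> simp [wt, uu, ll, mul_00, mul_01, mul_10, mul_11, ht]

theorem conj_uu_of_00 (k : SpecialLinearGroup (Fin 2) F) (hk : k.1 0 0 = 0) (s : F) :
    k * uu s * k⁻¹ = ll (-s * (k.1 1 0) ^ 2) := by
  apply ext2 <;>
    simp [uu, ll, mul_00, mul_01, mul_10, mul_11, inv_00, inv_01, inv_10, inv_11, hk]
  · have := det2 k
    rw [hk] at this
    linear_combination this
  · ring
  · have := det2 k
    rw [hk] at this
    linear_combination this

theorem wt_conj_uu (t : F) (ht : t ≠ 0) (s : F) :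
    wt t ht * uu s * (wt t ht)⁻¹ = ll (-s / t ^ 2) := by
  rw [conj_uu_of_00 _ (by simp [wt])]
  congr 1
  simp [wt]
  field_simp

theorem entry00_of_conj (k : SpecialLinearGroup (Fin 2) F) (s : F)
    (h : pm k * pm (uu 1) * (pm k)⁻¹ = pm (ll s)) : k.1 0 0 = 0 := by
  have h1 : pm (k * uu 1 * k⁻¹) = pm (ll s) := h
  have h2 := eq_of_pm_eq_of_tr h1 (by rw [tr_conj, tr_uu]) (tr_ll s)
  have h3 := congrArg (fun x : SpecialLinearGroup (Fin 2) F => x.1 0 1) h2
  simp only [uu, ll, mul_01, mul_00, inv_01, inv_11, mk2_00, mk2_01, mk2_10, mk2_11] at h3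
  have h4 : (k.1 0 0) ^ 2 = 0 := by linear_combination h3
  exact pow_eq_zero_iff (two_ne_zero) |>.1 h4

/-- normalised automorphisms -/
structure Norm (α : ProjectiveSpecialLinearGroup (Fin 2) F ≃* ProjectiveSpecialLinearGroup (Fin 2) F)
    (a b : F → F) : Prop where
  hu : ∀ t, α (pm (uu t)) = pm (uu (a t))
  hl : ∀ t, α (pm (ll t)) = pm (ll (b t))
  h1 : a 1 = 1

namespace Norm

variable {α : ProjectiveSpecialLinearGroup (Fin 2) F ≃* ProjectiveSpecialLinearGroup (Fin 2) F}
  {a b : F → F}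

theorem a_add (h : Norm α a b) (s t : F) : a (s + t) = a s + a t := by
  apply pm_uu_injective
  show pm (uu (a (s + t))) = pm (uu (a s + a t))
  rw [← h.hu, uu_add', pm_mul, map_mul, h.hu, h.hu, uu_add', pm_mul]

theorem a_zero (h : Norm α a b) : a 0 = 0 := by
  have := h.a_add 0 0
  rw [add_zero] at this
  linear_combination -this

theorem a_neg (h : Norm α a b) (t : F) : a (-t) = - a t := by
  have := h.a_add t (-t)
  rw [add_neg_cancel, h.a_zero] at this
  linear_combination -this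

theorem a_sub (h : Norm α a b) (s t : F) : a (s - t) = a s - a t := by
  rw [sub_eq_add_neg, h.a_add, h.a_neg]; ring

theorem a_injective (h : Norm α a b) : Function.Injective a := by
  intro s t hst
  apply pm_uu_injective
  apply α.injective
  show α (pm (uu s)) = α (pm (uu t))
  rw [h.hu, h.hu, hst]

theorem a_ne_zero (h : Norm α a b) {t : F} (ht : t ≠ 0) : a t ≠ 0 := by
  intro h0
  apply ht
  apply h.a_injective
  rw [h0, h.a_zero]

theorem b_inv (h : Norm α a b) {t : F} (ht : t ≠ 0) : b (-t⁻¹) = - (a t)⁻¹ := by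
  have e1 : pm (wt t ht) * pm (uu 1) * (pm (wt t ht))⁻¹ = pm (ll (-1 / t ^ 2)) := by
    rw [← wt_conj_uu t ht 1]; rfl
  have e2 := congrArg α e1
  rw [map_mul, map_mul, map_inv, h.hu, h.hl, h.h1] at e2
  have e3 : α (pm (wt t ht)) = pm (uu (a t) * ll (b (-t⁻¹)) * uu (a t)) := by
    rw [wt_eq, pm_mul, pm_mul, map_mul, map_mul, h.hu, h.hl]; rfl
  rw [e3] at e2
  have e4 := entry00_of_conj _ _ e2
  simp only [uu, ll, mul_00, mul_01, mk2_00, mk2_01, mk2_10, mk2_11] at e4
  have ha := h.a_ne_zero ht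
  have e5 : a t * b (-t⁻¹) = -1 := by linear_combination e4
  have e6 : b (-t⁻¹) = (a t)⁻¹ * (a t * b (-t⁻¹)) := by
    rw [← mul_assoc, inv_mul_cancel₀ ha, one_mul]
  rw [e6, e5]; ring

theorem map_wt (h : Norm α a b) {t : F} (ht : t ≠ 0) :
    α (pm (wt t ht)) = pm (wt (a t) (h.a_ne_zero ht)) := by
  rw [wt_eq, wt_eq, pm_mul, pm_mul, map_mul, map_mul, h.hu, h.hl, h.b_inv ht]; rfl

theorem b_div (h : Norm α a b) {t : F} (ht : t ≠ 0) (s : F) :
    b (-s / t ^ 2) = - a s / (a t) ^ 2 := by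
  have e1 : pm (wt t ht) * pm (uu s) * (pm (wt t ht))⁻¹ = pm (ll (-s / t ^ 2)) := by
    rw [← wt_conj_uu t ht s]; rfl
  have e2 := congrArg α e1
  rw [map_mul, map_mul, map_inv, h.hu, h.hl, h.map_wt ht] at e2
  have e3 : pm (wt (a t) (h.a_ne_zero ht)) * pm (uu (a s)) * (pm (wt (a t) (h.a_ne_zero ht)))⁻¹ =
      pm (ll (- a s / (a t) ^ 2)) := by
    rw [← wt_conj_uu (a t) (h.a_ne_zero ht) (a s)]; rfl
  rw [e3] at e2
  exact (pm_ll_injective e2).symm

theorem b_eq_a (h : Norm α a b) (s : F) : b s = a s := by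
  have := h.b_div one_ne_zero (-s)
  rw [h.h1, h.a_neg] at this
  simpa using this

theorem a_div (h : Norm α a b) {t : F} (ht : t ≠ 0) (s : F) :
    a (s / t ^ 2) = a s / (a t) ^ 2 := by
  have := h.b_div ht (-s)
  rw [h.b_eq_a, h.a_neg] at this
  simpa using this

theorem a_sq (h : Norm α a b) (t : F) : a (t ^ 2) = (a t) ^ 2 := by
  by_cases ht : t = 0
  · subst ht
    simp [h.a_zero]
  have := h.a_div ht (t ^ 2)
  rw [div_self (pow_ne_zero 2 ht), h.h1] at this
  have ha := h.a_ne_zero ht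
  field_simp at this
  exact this.symm

theorem a_mul_sq (h : Norm α a b) (s t : F) : a (s * t ^ 2) = a s * (a t) ^ 2 := by
  by_cases ht : t = 0
  · subst ht
    simp [h.a_zero]
  have := h.a_div ht (s * t ^ 2)
  rw [mul_div_assoc, div_self (pow_ne_zero 2 ht), mul_one] at this
  have ha := h.a_ne_zero ht
  field_simp at this
  exact this.symm

theorem a_mul [Finite F] (h : Norm α a b) (x y : F) : a (x * y) = a x * a y := by
  by_cases h2 : (2 : F) = 0
  · have : CharP F 2 := CharTwo.of_one_ne_zero_of_two_eq_zero one_ne_zero h2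
    have := Fintype.ofFinite F
    obtain ⟨r, hr⟩ := FiniteField.isSquare_of_char_two (ringChar.eq F 2) y
    rw [hr, ← pow_two, h.a_mul_sq, h.a_sq]
  · have e1 : a (x * (y + 1) ^ 2 - x * (y - 1) ^ 2) =
        a x * (a y + 1) ^ 2 - a x * (a y - 1) ^ 2 := by
      rw [h.a_sub, h.a_mul_sq, h.a_mul_sq, h.a_add, h.a_sub, h.h1]
    have e2 : x * (y + 1) ^ 2 - x * (y - 1) ^ 2 = (x * y + x * y) + (x * y + x * y) := by ring
    rw [e2, h.a_add, h.a_add] at e1
    have h4 : (4 : F) ≠ 0 := by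
      have : (4 : F) = 2 * 2 := by norm_num
      rw [this]; exact mul_ne_zero h2 h2
    apply mul_left_cancel₀ h4
    linear_combination e1

/-- the field automorphism attached to a normalised automorphism -/
noncomputable def toRingEquiv [Finite F] (h : Norm α a b) : F ≃+* F :=
  RingEquiv.ofBijective
    ({ toFun := a
       map_one' := h.h1
       map_mul' := h.a_mul
       map_zero' := h.a_zero
       map_add' := h.a_add } : F →+* F) (Finite.injective_iff_bijective.1 h.a_injective)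

theorem toRingEquiv_apply [Finite F] (h : Norm α a b) (t : F) : h.toRingEquiv t = a t := rfl

end Norm

end Cfsg.Agent.Lib.Helper18.AutPSL2
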