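import Mathlib
import Cfsg.Agent.Lib.Helper18.AutPSL2.Core
import Cfsg.Agent.Lib.Helper7.SL2

set_option autoImplicit false

/-!
Every automorphism of `PSL₂(F)`, `F` finite, is a field automorphism followed by conjugation by
an element of `GL₂(F)`.
-/

namespace Cfsg.Agent.Lib.Helper18.AutPSL2

open Matrix MatrixGroups Cfsg.Agent.Lib.Helper46

variable {F : Type*} [Field F]

theorem uSL_eq_uu (t : F) : Cfsg.Agent.Lib.Helper7.uSL t = uu t := by
  apply ext2 <;> simp [Cfsg.Agent.Lib.Helper7.uSL, uu]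

theorem lSL_eq_ll (t : F) : Cfsg.Agent.Lib.Helper7.lSL t = ll t := by
  apply ext2 <;> simp [Cfsg.Agent.Lib.Helper7.lSL, ll]

/-- two homomorphisms out of `PSL₂` agreeing on the root elements are equal -/
theorem aut_ext {α β : ProjectiveSpecialLinearGroup (Fin 2) F ≃*
    ProjectiveSpecialLinearGroup (Fin 2) F}
    (hu : ∀ t, α (pm (uu t)) = β (pm (uu t))) (hl : ∀ t, α (pm (ll t)) = β (pm (ll t))) :
    α = β := by
  let K : Subgroup (SpecialLinearGroup (Fin 2) F) :=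
    (MonoidHom.eqLocus α.toMonoidHom β.toMonoidHom).comap
      (QuotientGroup.mk' (Subgroup.center (SpecialLinearGroup (Fin 2) F)))
  have hK : K = ⊤ := by
    apply Cfsg.Agent.Lib.Helper7.eq_top_of_uSL_lSL
    · intro t
      rw [uSL_eq_uu]
      exact hu t
    · intro t
      rw [lSL_eq_ll]
      exact hl t
  ext x
  obtain ⟨x, rfl⟩ := pm_surjective x
  have : x ∈ K := by rw [hK]; trivial
  exact this

section Sylow

variable [Fintype F]

/-- images of conjugates of the unipotent group under an automorphism -/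
theorem exists_conj_of_aut (p : ℕ) [Fact p.Prime] [CharP F p]
    (α : ProjectiveSpecialLinearGroup (Fin 2) F ≃* ProjectiveSpecialLinearGroup (Fin 2) F)
    (k : SpecialLinearGroup (Fin 2) F) :
    ∃ g : SpecialLinearGroup (Fin 2) F, ∀ t : F, ∃ s : F,
      α (pm (k * uu t * k⁻¹)) = pm (g * uu s * g⁻¹) := by
  obtain ⟨P0, hP0⟩ := Cfsg.Agent.Lib.Helper7.exists_sylow_eq_USL (F := F) p
  have hπ : Function.Surjective
      (QuotientGroup.mk' (Subgroup.center (SpecialLinearGroup (Fin 2) F))) :=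
    QuotientGroup.mk'_surjective _
  have hα : Function.Surjective α.toMonoidHom := α.surjective
  let P2 : Sylow p (ProjectiveSpecialLinearGroup (Fin 2) F) := (k • P0).mapSurjective hπ
  let P3 : Sylow p (ProjectiveSpecialLinearGroup (Fin 2) F) := P2.mapSurjective hα
  obtain ⟨R, hR⟩ := Sylow.mapSurjective_surjective hπ p P3
  obtain ⟨P0', g, hP0', hg⟩ := Cfsg.Agent.Lib.Helper7.sylow_eq_smul_USL p R
  refine ⟨g, fun t => ?_⟩
  have h1 : k * uu t * k⁻¹ ∈ ((k • P0 : Sylow p _) : Subgroup (SpecialLinearGroup (Fin 2) F)) := by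
    rw [Sylow.coe_subgroup_smul, Subgroup.mem_pointwise_smul_iff_inv_smul_mem, hP0]
    simp only [MulAut.smul_def, map_inv, MulAut.inv_apply, MulAut.conj_symm_apply]
    rw [Cfsg.Agent.Lib.Helper7.mem_USL]
    refine ⟨t, ?_⟩
    rw [uSL_eq_uu]; group
  have h2 : α (pm (k * uu t * k⁻¹)) ∈ (P3 : Subgroup _) := by
    refine ⟨pm (k * uu t * k⁻¹), ⟨_, h1, rfl⟩, rfl⟩
  rw [← hR] at h2
  obtain ⟨r, hr, hr2⟩ := h2
  rw [← hg] at hr
  have hr' : r ∈ ((g • P0' : Sylow p _) : Subgroup (SpecialLinearGroup (Fin 2) F)) := hr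
  rw [Sylow.coe_subgroup_smul, Subgroup.mem_pointwise_smul_iff_inv_smul_mem, hP0'] at hr'
  simp only [MulAut.smul_def, map_inv, MulAut.inv_apply, MulAut.conj_symm_apply] at hr'
  rw [Cfsg.Agent.Lib.Helper7.mem_USL] at hr'
  obtain ⟨s, hs⟩ := hr'
  refine ⟨s, ?_⟩
  rw [← hr2, ← uSL_eq_uu, hs]
  show pm r = _
  congr 1
  group

/-- the diagonal matrix `diag(d,1)` -/
noncomputable def dg (d : F) (hd : d ≠ 0) : GL (Fin 2) F :=
  GeneralLinearGroup.mkOfDetNeZero !![d, 0; 0, 1] (by simpa [det_fin_two] using hd)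

omit [Fintype F] in
theorem dg_val (d : F) (hd : d ≠ 0) : (dg d hd).1 = !![d, 0; 0, 1] := rfl

omit [Fintype F] in
theorem conjS_dg_uu (d : F) (hd : d ≠ 0) (s : F) : conjS (dg d hd) (uu s) = uu (d * s) := by
  apply conjS_eq_of_mul
  rw [dg_val]
  ext i j
  fin_cases i <;> fin_cases j <;> simp [uu, mk2, Matrix.mul_apply, Fin.sum_univ_two]

omit [Fintype F] in
theorem conjS_dg_ll (d : F) (hd : d ≠ 0) (s : F) : conjS (dg d hd) (ll s) = ll (s / d) := by
  apply conjS_eq_of_mul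
  rw [dg_val]
  ext i j
  fin_cases i <;> fin_cases j <;> simp [ll, mk2, Matrix.mul_apply, Fin.sum_univ_two]
  field_simp

omit [Fintype F] in
theorem conj_uu_of_10 (h : SpecialLinearGroup (Fin 2) F) (hh : h.1 1 0 = 0) (s : F) :
    h * uu s * h⁻¹ = uu (s * (h.1 0 0) ^ 2) := by
  have hd := det2 h
  rw [hh] at hd
  apply ext2 <;>
    simp [uu, mul_00, mul_01, mul_10, mul_11, inv_00, inv_01, inv_10, inv_11, hh]
  · linear_combination hd
  · ring
  · linear_combination hd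

/-- every automorphism can be normalised by an element of `GL₂(F)` -/
theorem exists_norm (p : ℕ) [Fact p.Prime] [CharP F p]
    (α : ProjectiveSpecialLinearGroup (Fin 2) F ≃* ProjectiveSpecialLinearGroup (Fin 2) F) :
    ∃ (g : GL (Fin 2) F) (a b : F → F), Norm (cG g * α) a b := by
  -- step 1
  obtain ⟨g, hg⟩ := exists_conj_of_aut p α 1
  set α₁ : ProjectiveSpecialLinearGroup (Fin 2) F ≃* ProjectiveSpecialLinearGroup (Fin 2) F :=
    cG (SpecialLinearGroup.toGL g⁻¹) * α with hα₁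
  have h1 : ∀ t, ∃ s, α₁ (pm (uu t)) = pm (uu s) := by
    intro t
    obtain ⟨s, hs⟩ := hg t
    refine ⟨s, ?_⟩
    rw [hα₁, MulAut.mul_apply]
    have : (1 : SpecialLinearGroup (Fin 2) F) * uu t * 1⁻¹ = uu t := by group
    rw [this] at hs
    rw [hs, cG_pm, conjS_toGL]
    congr 1
    group
  choose a₁ ha₁ using h1
  have ha₁inj : Function.Injective a₁ := by
    intro s t hst
    apply pm_uu_injective
    apply α₁.injective
    show α₁ (pm (uu s)) = α₁ (pm (uu t))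
    rw [ha₁, ha₁, hst]
  have ha₁surj : Function.Surjective a₁ := Finite.injective_iff_surjective.1 ha₁inj
  -- step 2
  obtain ⟨h, hh⟩ := exists_conj_of_aut p α₁ (wt 1 one_ne_zero)
  have h2 : ∀ t, ∃ s, α₁ (pm (ll t)) = pm (h * uu s * h⁻¹) := by
    intro t
    obtain ⟨s, hs⟩ := hh (-t)
    refine ⟨s, ?_⟩
    rw [wt_conj_uu] at hs
    simpa using hs
  have hh10 : h.1 1 0 ≠ 0 := by
    intro h0
    obtain ⟨s, hs⟩ := h2 1
    rw [conj_uu_of_10 h h0] at hs
    obtain ⟨t', ht'⟩ := ha₁surj (s * (h.1 0 0) ^ 2)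
    rw [← ht', ← ha₁] at hs
    exact pm_ll_ne_pm_uu 1 t' one_ne_zero (α₁.injective hs)
  set x := h.1 0 0 / h.1 1 0 with hx
  set k := uu (-x) * h with hk
  have hk00 : k.1 0 0 = 0 := by
    rw [hk, mul_00]
    simp only [uu, mk2_00, mk2_01]
    rw [hx]
    field_simp
    ring
  set α₂ : ProjectiveSpecialLinearGroup (Fin 2) F ≃* ProjectiveSpecialLinearGroup (Fin 2) F :=
    cG (SpecialLinearGroup.toGL (uu (-x))) * α₁ with hα₂
  have h3 : ∀ t, α₂ (pm (uu t)) = pm (uu (a₁ t)) := by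
    intro t
    rw [hα₂, MulAut.mul_apply, ha₁, cG_pm, conjS_toGL, uu_inv', ← uu_add', ← uu_add']
    congr 2
    ring
  have h4 : ∀ t, ∃ s, α₂ (pm (ll t)) = pm (ll s) := by
    intro t
    obtain ⟨s, hs⟩ := h2 t
    refine ⟨-s * (k.1 1 0) ^ 2, ?_⟩
    rw [hα₂, MulAut.mul_apply, hs, cG_pm, conjS_toGL, ← conj_uu_of_00 k hk00, hk]
    congr 1
    group
  choose b₂ hb₂ using h4
  -- step 3
  have hs1 : a₁ 1 ≠ 0 := by
    intro h0
    have h5 : a₁ 0 = 0 := by
      apply pm_uu_injective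
      show pm (uu (a₁ 0)) = pm (uu 0)
      rw [← ha₁, uu_zero', pm_one, map_one]
    exact one_ne_zero (ha₁inj (h0.trans h5.symm))
  have hd : (a₁ 1)⁻¹ ≠ 0 := inv_ne_zero hs1
  refine ⟨dg _ hd * SpecialLinearGroup.toGL (uu (-x)) * SpecialLinearGroup.toGL g⁻¹,
    fun t => (a₁ 1)⁻¹ * a₁ t, fun t => b₂ t / (a₁ 1)⁻¹, ?_⟩
  have e : cG (dg _ hd * SpecialLinearGroup.toGL (uu (-x)) * SpecialLinearGroup.toGL g⁻¹) * α =
      cG (dg _ hd) * α₂ := by
    rw [hα₂, hα₁, map_mul, map_mul]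
    simp only [mul_assoc]
  rw [e]
  refine ⟨fun t => ?_, fun t => ?_, inv_mul_cancel₀ hs1⟩
  · rw [MulAut.mul_apply, h3, cG_pm, conjS_dg_uu]
  · rw [MulAut.mul_apply, hb₂, cG_pm, conjS_dg_ll]

/-- **Automorphisms of `PSL₂(F)`**: every automorphism is the composite of a field automorphism
and conjugation by an element of `GL₂(F)`. -/
theorem exists_eq_cG_mul_fld (p : ℕ) [Fact p.Prime] [CharP F p]
    (α : ProjectiveSpecialLinearGroup (Fin 2) F ≃* ProjectiveSpecialLinearGroup (Fin 2) F) :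
    ∃ (g : GL (Fin 2) F) (σ : F ≃+* F), α = cG g * autQ (fldS σ) := by
  obtain ⟨g, a, b, hN⟩ := exists_norm p α
  refine ⟨g⁻¹, hN.toRingEquiv, ?_⟩
  have h1 : cG g * α = autQ (fldS hN.toRingEquiv) := by
    apply aut_ext
    · intro t
      rw [hN.hu, autQ_pm, fldS_uu, hN.toRingEquiv_apply]
    · intro t
      rw [hN.hl, autQ_pm, fldS_ll, hN.toRingEquiv_apply, hN.b_eq_a]
  rw [← h1, map_inv, inv_mul_cancel_left]

end Sylow

end Cfsg.Agent.Lib.Helper18.AutPSL2
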