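import Mathlib

set_option autoImplicit false

/-!
Abstract group theory used for the structure of `Out(PSL₂(q))`.
-/

namespace Cfsg.Agent.Lib.Helper18.AutPSL2

/-- `A = c(H) ⋊ Φ(Γ)` gives a surjection `A → Γ` with kernel `c(H)`. -/
theorem exists_hom_of_factorisation {A Γ H : Type*} [Group A] [Group Γ] [Group H]
    (c : H →* A) (Φ : Γ →* A)
    (h1 : ∀ α : A, ∃ (g : H) (σ : Γ), α = c g * Φ σ)
    (h2 : ∀ (σ : Γ) (h : H), ∃ h' : H, Φ σ * c h = c h' * Φ σ)
    (h3 : ∀ (g : H) (σ : Γ), c g = Φ σ → σ = 1) :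
    ∃ τ : A →* Γ, Function.Surjective τ ∧ τ.ker = c.range := by
  have huniq : ∀ (g g' : H) (σ σ' : Γ), c g * Φ σ = c g' * Φ σ' → σ = σ' := by
    intro g g' σ σ' h
    have : c (g'⁻¹ * g) = Φ (σ' * σ⁻¹) := by
      rw [map_mul, map_mul, map_inv, map_inv, inv_mul_eq_iff_eq_mul, ← mul_assoc, ← h,
        mul_inv_cancel_right]
    have h4 := h3 _ _ this
    exact (mul_inv_eq_one.1 h4).symm
  choose gg ss hs using h1
  have hτ : ∀ (α : A) (g : H) (σ : Γ), α = c g * Φ σ → ss α = σ := by
    intro α g σ h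
    exact huniq _ _ _ _ ((hs α).symm.trans h)
  let τ : A →* Γ := MonoidHom.mk' ss (by
    intro α β
    obtain ⟨h', hh'⟩ := h2 (ss α) (gg β)
    apply hτ _ (gg α * h')
    conv_lhs => rw [hs α, hs β]
    rw [map_mul, map_mul, mul_assoc, ← mul_assoc (Φ (ss α)), hh']
    simp only [mul_assoc])
  refine ⟨τ, ?_, ?_⟩
  · intro σ
    exact ⟨Φ σ, hτ _ 1 σ (by simp)⟩
  · ext α
    rw [MonoidHom.mem_ker, MonoidHom.mem_range]
    constructor
    · intro h
      refine ⟨gg α, ?_⟩
      have h5 : ss α = 1 := h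
      conv_rhs => rw [hs α, h5]
      simp
    · rintro ⟨g, rfl⟩
      exact hτ _ g 1 (by simp)

/-- passing to the quotient by a normal subgroup contained in the kernel -/
theorem exists_out_hom {A Γ : Type*} [Group A] [Finite A] [Group Γ] [IsCyclic Γ]
    (I : Subgroup A) [I.Normal] (τ : A →* Γ) (hτ : Function.Surjective τ) (hI : I ≤ τ.ker)
    (f d : ℕ) (hf : Nat.card Γ = f) (hd : Nat.card τ.ker = d * Nat.card I) (hd2 : d = 1 ∨ d = 2) :
    ∃ φ : A ⧸ I →* Multiplicative (ZMod f), Function.Surjective φ ∧ IsCyclic φ.ker ∧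
      Nat.card φ.ker = d := by
  have : Finite Γ := Finite.of_surjective τ hτ
  have hf0 : 0 < f := by rw [← hf]; exact Nat.card_pos
  have : NeZero f := ⟨hf0.ne'⟩
  have hZ : Nat.card (Multiplicative (ZMod f)) = f := by
    rw [Nat.card_eq_fintype_card, Fintype.card_multiplicative, ZMod.card]
  have e : Γ ≃* Multiplicative (ZMod f) := mulEquivOfCyclicCardEq (by rw [hf, hZ])
  let τ' : A →* Multiplicative (ZMod f) := e.toMonoidHom.comp τ
  have hτ' : Function.Surjective τ' := e.surjective.comp hτ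
  have hker : τ'.ker = τ.ker := by
    ext x
    simp [τ', MonoidHom.mem_ker]
  let φ : A ⧸ I →* Multiplicative (ZMod f) := QuotientGroup.lift I τ' (by
    intro x hx
    have := hI hx
    rw [← hker] at this
    exact this)
  have hφ : Function.Surjective φ := by
    intro y
    obtain ⟨x, rfl⟩ := hτ' y
    exact ⟨QuotientGroup.mk x, rfl⟩
  have hcard : Nat.card φ.ker = d := by
    have c1 : Nat.card (A ⧸ I) = Nat.card φ.ker * f := by
      rw [← Subgroup.card_mul_index φ.ker, Subgroup.index_ker, MonoidHom.range_eq_top.2 hφ,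
        Nat.card_congr Subgroup.topEquiv.toEquiv, hZ]
    have c2 : Nat.card A = Nat.card τ.ker * f := by
      rw [← Subgroup.card_mul_index τ.ker, Subgroup.index_ker, MonoidHom.range_eq_top.2 hτ,
        Nat.card_congr Subgroup.topEquiv.toEquiv, hf]
    have c3 : Nat.card A = Nat.card (A ⧸ I) * Nat.card I :=
      Subgroup.card_eq_card_quotient_mul_card_subgroup I
    rw [c1, c2, hd] at c3
    have hI0 : 0 < Nat.card I := Nat.card_pos
    have : d * (Nat.card I * f) = Nat.card φ.ker * (Nat.card I * f) := by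
      linarith [c3, mul_assoc d (Nat.card I) f, mul_assoc (Nat.card φ.ker) f (Nat.card I),
        mul_comm f (Nat.card I)]
    exact (Nat.eq_of_mul_eq_mul_right (Nat.mul_pos hI0 hf0) this).symm
  refine ⟨φ, hφ, ?_, hcard⟩
  rcases hd2 with h | h
  · have : Subsingleton φ.ker := by
      rw [← Finite.card_le_one_iff_subsingleton, hcard, h]
    exact isCyclic_of_subsingleton
  · have : Fact (Nat.Prime 2) := ⟨Nat.prime_two⟩
    exact isCyclic_of_prime_card (p := 2) (by rw [hcard, h])

end Cfsg.Agent.Lib.Helper18.AutPSL2
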