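import Mathlib
import Cfsg.Prelude.Def_KGroupFacts
import Cfsg.Agent.Lib.Helper18.AutPSL2.Reduce
import Cfsg.Agent.Lib.Helper18.AutPSL2.Abstract
import Cfsg.Agent.Lib.Helper6.SLCard

set_option autoImplicit false

/-!
The structure of `Out(PSL₂(q))`.
-/

namespace Cfsg.Agent.Lib.Helper18.AutPSL2

open Matrix MatrixGroups Cfsg.Agent.Lib.Helper46

variable {F : Type*} [Field F]

/-- rigidity: if conjugation by `g` agrees with a field automorphism then the latter is trivial and
`g` is a scalar. -/
theorem rigid (g : GL (Fin 2) F) (σ : F ≃+* F) (h : cG g = autQ (fldS σ)) :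
    (∀ t, σ t = t) ∧ g ∈ Subgroup.center (GL (Fin 2) F) := by
  have hu : ∀ t, (uu (σ t)).1 * g.1 = g.1 * (uu t).1 := by
    intro t
    have h1 := congrArg (fun β => β (pm (uu t))) h
    simp only [cG_pm, autQ_pm, fldS_uu] at h1
    have h2 := eq_of_pm_eq_of_tr h1 (by rw [tr_conjS, tr_uu]) (tr_uu _)
    rw [← h2, conjS_mul]
  have hl : ∀ t, (ll (σ t)).1 * g.1 = g.1 * (ll t).1 := by
    intro t
    have h1 := congrArg (fun β => β (pm (ll t))) h
    simp only [cG_pm, autQ_pm, fldS_ll] at h1
    have h2 := eq_of_pm_eq_of_tr h1 (by rw [tr_conjS, tr_ll]) (tr_ll _)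
    rw [← h2, conjS_mul]
  have hu00 := fun t => congrFun (congrFun (hu t) 0) 0
  have hu01 := fun t => congrFun (congrFun (hu t) 0) 1
  have hl00 := fun t => congrFun (congrFun (hl t) 0) 0
  simp only [uu, ll, mk2, Matrix.mul_apply, Fin.sum_univ_two] at hu00 hu01 hl00
  simp at hu00 hu01 hl00
  have hC : g.1 1 0 = 0 := by
    rcases hu00 1 with h | h
    · exact absurd h one_ne_zero
    · exact h
  have hB : g.1 0 1 = 0 := by
    rcases hl00 1 with h | h
    · exact h
    · exact absurd h one_ne_zero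
  have hD : g.1 1 1 = g.1 0 0 := by
    have := hu01 1
    simp only [map_one, one_mul, mul_one] at this
    linear_combination this
  have hdet : g.1.det ≠ 0 := by
    have := g.det.ne_zero
    simpa using this
  rw [det_fin_two, hC, hB, hD] at hdet
  have hA : g.1 0 0 ≠ 0 := by
    intro h0
    apply hdet
    rw [h0]; ring
  refine ⟨fun t => ?_, ?_⟩
  · have := hu01 t
    rw [hD] at this
    apply mul_right_cancel₀ hA
    linear_combination this
  · rw [GeneralLinearGroup.mem_center_iff_val_mem_range_scalar]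
    refine ⟨g.1 0 0, ?_⟩
    ext i j
    fin_cases i <;> fin_cases j <;> simp [hB, hC, hD]

theorem fldS_refl : fldS (RingEquiv.refl F) = 1 := by
  ext x : 1
  apply ext2 <;> rfl

theorem autQ_one : autQ (1 : SpecialLinearGroup (Fin 2) F ≃* SpecialLinearGroup (Fin 2) F) = 1 :=
  map_one autQHom

theorem ker_cG : (cG : GL (Fin 2) F →* _).ker = Subgroup.center (GL (Fin 2) F) := by
  ext g
  rw [MonoidHom.mem_ker]
  constructor
  · intro h
    exact (rigid g (RingEquiv.refl F) (by rw [h, fldS_refl, autQ_one])).2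
  · intro h
    ext x
    obtain ⟨x, rfl⟩ := pm_surjective x
    rw [cG_pm]
    show pm _ = pm x
    congr 1
    apply conjS_eq_of_mul
    have := Subgroup.mem_center_iff.1 h (SpecialLinearGroup.toGL x)
    exact congrArg Units.val this

theorem conj_injective :
    Function.Injective (MulAut.conj : ProjectiveSpecialLinearGroup (Fin 2) F →* _) := by
  rw [injective_iff_map_eq_one]
  intro x hx
  obtain ⟨x, rfl⟩ := pm_surjective x
  rw [← cG_toGL] at hx
  have h1 : SpecialLinearGroup.toGL x ∈ (cG : GL (Fin 2) F →* _).ker := hx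
  rw [ker_cG, SpecialLinearGroup.toGL_mem_center_iff] at h1
  exact (QuotientGroup.eq_one_iff x).2 h1

/-- field automorphisms of `PSL₂(F)` -/
noncomputable def Fld (K : Type*) [CommSemiring K] [Algebra K F] :
    (F ≃ₐ[K] F) →* MulAut (ProjectiveSpecialLinearGroup (Fin 2) F) where
  toFun σ := autQ (fldS σ.toRingEquiv)
  map_one' := by
    ext x
    obtain ⟨x, rfl⟩ := pm_surjective x
    rw [autQ_pm]
    show pm _ = pm x
    congr 1
  map_mul' a b := by
    ext x
    obtain ⟨x, rfl⟩ := pm_surjective x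
    rw [autQ_pm]
    show pm _ = pm _
    congr 1

theorem Fld_apply (K : Type*) [CommSemiring K] [Algebra K F] (σ : F ≃ₐ[K] F) :
    Fld K σ = autQ (fldS σ.toRingEquiv) := rfl

theorem fld_mul_cG (σ : F ≃+* F) (h : GL (Fin 2) F) :
    autQ (fldS σ) * cG h = cG (GeneralLinearGroup.map (σ : F →+* F) h) * autQ (fldS σ) := by
  ext x
  obtain ⟨x, rfl⟩ := pm_surjective x
  rw [MulAut.mul_apply, MulAut.mul_apply, cG_pm, autQ_pm, autQ_pm, cG_pm]
  congr 1
  symm
  apply conjS_eq_of_mul
  have h1 := congrArg (fun M => (σ : F →+* F).mapMatrix M) (conjS_mul h x)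
  simp only [map_mul] at h1
  exact h1

section Final

variable [Fintype F]

theorem card_range_cG : Nat.card (cG : GL (Fin 2) F →* _).range * (Fintype.card F - 1) =
    Nat.card (GL (Fin 2) F) := by
  rw [← Subgroup.index_ker, ← Subgroup.card_mul_index (cG : GL (Fin 2) F →* _).ker, ker_cG,
    GeneralLinearGroup.center_eq_range_scalar, mul_comm]
  congr 1
  have hinj : Function.Injective (GeneralLinearGroup.scalar (Fin 2) : Fˣ →* GL (Fin 2) F) := by
    intro a b hab
    have := congrArg (fun g : GL (Fin 2) F => g.1 0 0) hab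
    apply Units.ext
    simpa using this
  classical
  rw [← Nat.card_congr (MonoidHom.ofInjective hinj).toEquiv, Nat.card_eq_fintype_card,
    Fintype.card_units]

theorem out_psl2 {p f : ℕ} [Fact p.Prime] (hF : Fintype.card F = p ^ f) :
    ∃ φ : Cfsg.Out (ProjectiveSpecialLinearGroup (Fin 2) F) →* Multiplicative (ZMod f),
      Function.Surjective φ ∧ IsCyclic φ.ker ∧ Nat.card φ.ker = Nat.gcd 2 (p ^ f - 1) := by
  have hchar : CharP F p := charP_of_card_eq_prime_pow hF
  let _ : Algebra (ZMod p) F := ZMod.algebra F p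
  have hA : Finite (MulAut (ProjectiveSpecialLinearGroup (Fin 2) F)) :=
    Finite.of_injective (fun α => (α : ProjectiveSpecialLinearGroup (Fin 2) F →
      ProjectiveSpecialLinearGroup (Fin 2) F)) DFunLike.coe_injective
  obtain ⟨τ, hτs, hτk⟩ := exists_hom_of_factorisation
    (cG : GL (Fin 2) F →* _) (Fld (F := F) (ZMod p))
    (by
      intro α
      obtain ⟨g, σ, h⟩ := exists_eq_cG_mul_fld p α
      refine ⟨g, AlgEquiv.ofRingEquiv (f := σ) (fun r => ?_), h⟩
      have : (σ : F →+* F).comp (algebraMap (ZMod p) F) = algebraMap (ZMod p) F :=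
        Subsingleton.elim _ _
      exact congrArg (fun φ : ZMod p →+* F => φ r) this)
    (by
      intro σ h
      exact ⟨_, fld_mul_cG σ.toRingEquiv h⟩)
    (by
      intro g σ h
      have := (rigid g σ.toRingEquiv h).1
      ext t
      exact this t)
  have hfin : Module.finrank (ZMod p) F = f := by
    have h1 := Module.card_eq_pow_finrank (K := ZMod p) (V := F)
    rw [hF, ZMod.card] at h1
    exact (Nat.pow_right_injective (Fact.out : p.Prime).two_le h1).symm
  have hΓ : Nat.card (F ≃ₐ[ZMod p] F) = f := by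
    rw [← Nat.card_congr (Equiv.ofBijective _
      (FiniteField.bijective_frobeniusAlgEquivOfAlgebraic_pow (ZMod p) F)), Nat.card_eq_fintype_card,
      Fintype.card_fin, hfin]
  have hq1 : 1 < Fintype.card F := Fintype.one_lt_card
  apply exists_out_hom (Cfsg.Inn (ProjectiveSpecialLinearGroup (Fin 2) F)) τ hτs
    (by
      rw [hτk]
      rintro _ ⟨x, rfl⟩
      obtain ⟨x, rfl⟩ := pm_surjective x
      exact ⟨SpecialLinearGroup.toGL x, cG_toGL x⟩) f _ hΓ
  · rw [hτk]
    have h1 := card_range_cG (F := F)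
    have h2 := Cfsg.Agent.Lib.Helper6.card_PSL_field (F := F) 2 (by norm_num)
    have h3 : Nat.card (GL (Fin 2) F) =
        ∏ i : Fin 2, (Fintype.card F ^ 2 - Fintype.card F ^ (i : ℕ)) := by
      rw [Matrix.card_GL_field]
    have h4 : Nat.card (Cfsg.Inn (ProjectiveSpecialLinearGroup (Fin 2) F)) =
        Nat.card (ProjectiveSpecialLinearGroup (Fin 2) F) :=
      (Nat.card_congr (MonoidHom.ofInjective conj_injective).toEquiv).symm
    rw [h4, ← hF]
    rw [← h3, ← h1] at h2
    have h5 : 0 < Fintype.card F - 1 := by omega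
    apply Nat.eq_of_mul_eq_mul_right h5
    rw [← h2]; ring
  · have h6 : Nat.gcd 2 (p ^ f - 1) ∣ 2 := Nat.gcd_dvd_left _ _
    rcases (Nat.dvd_prime Nat.prime_two).1 h6 with h | h
    · left; exact h
    · right; exact h

end Final

end Cfsg.Agent.Lib.Helper18.AutPSL2
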